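/-
helper58, project SQF (= S4130: finite groups all of whose conjugacy class sizes are square-free).
Definitions shared by the modules.
-/
import Mathlib
import Cfsg.Prelude.Def_Solvable

set_option autoImplicit false

namespace Cfsg.Agent.Lib.Helper58.SQF

/-- `SQ G`: every conjugacy class of `G` has square-free size. -/
def SQ (G : Type*) [Group G] : Prop :=
  ∀ x : G, Squarefree (Subgroup.centralizer ({x} : Set G)).index

/-- `NoPPrimeNormal p G`: `O_{p'}(G) = 1`, every normal subgroup of order prime to `p` is trivial. -/
def NoPPrimeNormal (p : ℕ) (G : Type*) [Group G] : Prop :=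
  ∀ N : Subgroup G, N.Normal → (Nat.card N).Coprime p → N = ⊥

end Cfsg.Agent.Lib.Helper58.SQF
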