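/-
helper58, project SQF (= S4130), module [BASIC]: inheritance of the square-free class size
property by quotients and normal subgroups, and the basic index divisibility.
-/
import Mathlib
import Cfsg.Agent.Lib.Helper58.SQF.Defs

set_option autoImplicit false

open Subgroup

namespace Cfsg.Agent.Lib.Helper58.SQF

/-- For `H ≤ K`, `|H| * [K : H] = |K|`. -/
theorem card_mul_relIndex' {G : Type*} [Group G] {H K : Subgroup G} (h : H ≤ K) :
    Nat.card H * H.relIndex K = Nat.card K := by
  have h1 := (H.subgroupOf K).card_mul_index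
  rwa [Nat.card_congr (Subgroup.subgroupOfEquivOfLe h).toEquiv] at h1

/-- For `N ⊴ G` finite: `|N : H ∩ N|` divides `|G : H|`. -/
theorem relIndex_dvd_index_of_normal_right {G : Type*} [Group G] [Finite G] (H N : Subgroup G)
    [N.Normal] : H.relIndex N ∣ H.index := by
  have h1 : H.relIndex (H ⊔ N) = H.relIndex N := by
    have e1 := relIndex_sup_right H N
    -- |HN| = |N| * [H : H ∩ N]
    have c1 := card_mul_relIndex' (le_sup_right : N ≤ H ⊔ N)
    have c2 := card_mul_relIndex' (le_sup_left : H ≤ H ⊔ N)
    have c3 := card_mul_relIndex' (inf_le_left : H ⊓ N ≤ H)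
    have c4 := card_mul_relIndex' (inf_le_right : H ⊓ N ≤ N)
    rw [e1] at c1
    rw [inf_comm, inf_relIndex_right] at c3
    rw [inf_relIndex_right] at c4
    rw [inf_comm] at c3
    -- c1 : |N| * N.relIndex H = |HN| ; c2 : |H| * H.relIndex (HN) = |HN|
    -- c3 : |H ⊓ N| * N.relIndex H = |H| ; c4 : |H ⊓ N| * H.relIndex N = |N|
    have hpos : 0 < Nat.card (H ⊓ N : Subgroup G) := Nat.card_pos
    have hpos2 : 0 < N.relIndex H := by
      rcases Nat.eq_zero_or_pos (N.relIndex H) with h0 | h0
      · rw [h0, mul_zero] at c3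
        exact absurd c3.symm (Nat.card_pos (α := H)).ne'
      · exact h0
    have key : Nat.card (H ⊓ N : Subgroup G) * N.relIndex H * H.relIndex (H ⊔ N)
        = Nat.card (H ⊓ N : Subgroup G) * N.relIndex H * H.relIndex N := by
      calc Nat.card (H ⊓ N : Subgroup G) * N.relIndex H * H.relIndex (H ⊔ N)
          = Nat.card H * H.relIndex (H ⊔ N) := by rw [c3]
        _ = Nat.card (H ⊔ N : Subgroup G) := c2
        _ = Nat.card N * N.relIndex H := c1.symm
        _ = Nat.card (H ⊓ N : Subgroup G) * H.relIndex N * N.relIndex H := by rw [c4]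
        _ = Nat.card (H ⊓ N : Subgroup G) * N.relIndex H * H.relIndex N := by ring
    exact Nat.eq_of_mul_eq_mul_left (Nat.mul_pos hpos hpos2) key
  rw [← h1]
  exact relIndex_dvd_index_of_le le_sup_left

/-- For `N ⊴ G`: `|N : C_N(g)|` divides `|G : C_G(g)|`. -/
theorem relIndex_centralizer_dvd_index {G : Type*} [Group G] [Finite G] (N : Subgroup G)
    [N.Normal] (g : G) :
    (centralizer ({g} : Set G)).relIndex N ∣ (centralizer ({g} : Set G)).index :=
  relIndex_dvd_index_of_normal_right _ N

/-- Square-free class sizes pass to quotients. -/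
theorem SQ.quotient {G : Type*} [Group G] [Finite G] (h : SQ G) (N : Subgroup G) [N.Normal] :
    SQ (G ⧸ N) := by
  intro y
  obtain ⟨x, rfl⟩ := QuotientGroup.mk_surjective y
  have h1 : (centralizer ({x} : Set G)).map (QuotientGroup.mk' N)
      ≤ centralizer ({(x : G ⧸ N)} : Set (G ⧸ N)) := by
    have := map_centralizer_le_centralizer_image ({x} : Set G) (QuotientGroup.mk' N)
    simpa using this
  have h2 : (centralizer ({(x : G ⧸ N)} : Set (G ⧸ N))).index ∣
      ((centralizer ({x} : Set G)).map (QuotientGroup.mk' N)).index := index_dvd_of_le h1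
  have h3 : ((centralizer ({x} : Set G)).map (QuotientGroup.mk' N)).index ∣
      (centralizer ({x} : Set G)).index :=
    index_map_dvd _ (QuotientGroup.mk'_surjective N)
  exact (h x).squarefree_of_dvd (h2.trans h3)

/-- Square-free class sizes pass to normal subgroups. -/
theorem SQ.of_normal {G : Type*} [Group G] [Finite G] (h : SQ G) (N : Subgroup G) [N.Normal] :
    SQ ↥N := by
  intro x
  have h1 : (centralizer ({x} : Set N)) = (centralizer ({(x : G)} : Set G)).subgroupOf N := by
    ext y
    simp only [mem_centralizer_singleton_iff, mem_subgroupOf]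
    constructor
    · intro hy
      have := congrArg Subtype.val hy
      simpa using this
    · intro hy
      apply Subtype.ext
      simpa using hy
  rw [h1]
  exact (h (x : G)).squarefree_of_dvd (relIndex_centralizer_dvd_index N (x : G))

/-- For a normal `p`-subgroup `P` of a group with square-free class sizes,
`|P : C_P(g)|` divides `p`. -/
theorem SQ.relIndex_dvd_prime {G : Type*} [Group G] [Finite G] (h : SQ G) (p : ℕ)
    [hp : Fact p.Prime] (P : Subgroup G) [P.Normal] (hP : IsPGroup p P) (g : G) :
    (centralizer ({g} : Set G)).relIndex P ∣ p := by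
  have h1 : Squarefree ((centralizer ({g} : Set G)).relIndex P) :=
    (h g).squarefree_of_dvd (relIndex_centralizer_dvd_index P g)
  obtain ⟨n, hn⟩ := IsPGroup.iff_card.mp hP
  have h2 : (centralizer ({g} : Set G)).relIndex P ∣ p ^ n := hn ▸ relIndex_dvd_card _ _
  obtain ⟨k, -, hk⟩ := (Nat.dvd_prime_pow hp.out).mp h2
  rw [hk] at h1 ⊢
  rcases k with _ | _ | k
  · simp
  · simp
  · exfalso
    have : ¬ Squarefree (p ^ (k + 2)) := by
      rw [Nat.squarefree_pow_iff hp.out.ne_one (by omega)]
      omega
    exact this h1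

end Cfsg.Agent.Lib.Helper58.SQF
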